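import Groth.Agent.Lib.Helper6.EtLift.ELa
import Groth.Agent.Lib.Helper6.W2Ghost
import Groth.Prelude.Def_W4c1liftfrobW2

/-!
# helper6: an étale algebra over an `F`-liftable algebra is `F`-liftable (S18155)
-/

set_option autoImplicit false
set_option linter.unusedSectionVars false
set_option linter.unusedVariables false
set_option linter.unusedSimpArgs false
set_option linter.style.haveILetI false
set_option maxHeartbeats 400000

universe u v
open FrobAlg Groth.Agent.Lib.Helper6.W2Arith

namespace Groth.Agent.Lib.Helper6.EtLift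

/-- Lifting along a nilpotent thickening for a formally smooth algebra, with a twisted base map. -/
theorem exists_lift_of_formallySmooth {B D T : Type*} [CommRing B] [CommRing D] [CommRing T]
    [Algebra B D] [Algebra.FormallySmooth B D] (f : B →+* T) (J : Ideal T) (hJ : IsNilpotent J)
    (g₀ : D →+* T ⧸ J) (h : g₀.comp (algebraMap B D) = (Ideal.Quotient.mk J).comp f) :
    ∃ g : D →+* T, (Ideal.Quotient.mk J).comp g = g₀ ∧ g.comp (algebraMap B D) = f := by
  letI := f.toAlgebra
  let g₀' : D →ₐ[B] T ⧸ J :=
    { g₀ with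
      commutes' := fun b => by
        change g₀ (algebraMap B D b) = algebraMap B (T ⧸ J) b
        exact (RingHom.congr_fun h b).trans rfl }
  obtain ⟨g, hg⟩ := Algebra.FormallySmooth.exists_lift J hJ g₀'
  refine ⟨g.toRingHom, ?_, ?_⟩
  · ext d
    exact AlgHom.congr_fun hg d
  · ext b
    exact g.commutes b

theorem isFLiftable_of_etale
    (p : ℕ) [Fact p.Prime] (k : Type u) [Field k] [CharP k p] [PerfectRing k p]
    (A C : Type v) [CommRing A] [CommRing C] [Algebra k A] [Algebra k C]
    [Algebra A C] [IsScalarTower k A C] [Algebra.Etale A C]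
    (hA : FrobAlg.IsFLiftable p k A) : FrobAlg.IsFLiftable p k C := by
  obtain ⟨B, _, ι, π, Φ, hΦ⟩ := hA
  have hL : IsLift p k A B ι π := hΦ.toIsLift
  let eA : B ⧸ RingHom.ker π ≃+* A := RingHom.quotientKerEquivOfSurjective hL.surj
  have heA : ∀ b, eA (Ideal.Quotient.mk _ b) = π b := fun b => rfl
  letI : Algebra (B ⧸ RingHom.ker π) A := (eA : B ⧸ RingHom.ker π →+* A).toAlgebra
  letI : Algebra (B ⧸ RingHom.ker π) C :=
    ((algebraMap A C).comp (eA : B ⧸ RingHom.ker π →+* A)).toAlgebra
  haveI : IsScalarTower (B ⧸ RingHom.ker π) A C := IsScalarTower.of_algebraMap_eq (fun _ => rfl)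
  haveI : Algebra.Etale (B ⧸ RingHom.ker π) A :=
    Algebra.Etale.of_equiv (A := B ⧸ RingHom.ker π)
      (AlgEquiv.ofRingEquiv (f := eA) (fun _ => rfl))
  haveI : Algebra.Etale (B ⧸ RingHom.ker π) C := Algebra.Etale.comp (B ⧸ RingHom.ker π) A C
  obtain ⟨D, _, _, q, hD, hqs, hqk, hqc⟩ := exists_etale_lift_surj B (RingHom.ker π) C
  have hqc' : ∀ b, q (algebraMap B D b) = algebraMap A C (π b) := fun b => (hqc b).trans rfl
  have hker : RingHom.ker π = Ideal.span {(p : B)} := by
    rw [hL.ker_eq, ker_res_eq, Ideal.map_span, Set.image_singleton, map_natCast]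
  have hppW : (p : W2 p k) * (p : W2 p k) = 0 := p_mul_p p k
  have hppD : (p : D) * (p : D) = 0 := by
    have h1 := congrArg ((algebraMap B D).comp ι) hppW
    simpa using h1
  have hqk' : RingHom.ker q = Ideal.span {(p : D)} := by
    rw [hqk, hker, Ideal.map_span, Set.image_singleton, map_natCast]
  have hJ : IsNilpotent (RingHom.ker q) := by
    refine ⟨2, ?_⟩
    rw [hqk', Ideal.span_singleton_pow, sq, hppD, Ideal.zero_eq_bot, Ideal.span_singleton_eq_bot]
  -- the lifting data
  have hflat : ((algebraMap B D).comp ι).Flat := by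
    refine RingHom.Flat.comp hL.flat ?_
    rw [RingHom.flat_algebraMap_iff]
    infer_instance
  have hkerD : RingHom.ker q = Ideal.map ((algebraMap B D).comp ι) (RingHom.ker (res p k)) := by
    rw [hqk, hL.ker_eq, Ideal.map_map]
  have hcomm : q.comp ((algebraMap B D).comp ι) = (algebraMap k C).comp (res p k) := by
    ext w
    rw [RingHom.comp_apply, RingHom.comp_apply, hqc', RingHom.comp_apply]
    have h1 := RingHom.congr_fun hL.comm w
    rw [RingHom.comp_apply, RingHom.comp_apply] at h1
    rw [h1, ← IsScalarTower.algebraMap_apply]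
  have hLD : IsLift p k C D ((algebraMap B D).comp ι) q := ⟨hflat, hqs, hkerD, hcomm⟩
  rcases subsingleton_or_nontrivial C with hC | hC
  · -- degenerate case
    haveI : Subsingleton D := by
      have h1 : (1 : D) ∈ RingHom.ker q := by
        rw [RingHom.mem_ker]; exact Subsingleton.elim _ _
      rw [hqk', Ideal.mem_span_singleton'] at h1
      obtain ⟨a, ha⟩ := h1
      have h2 : (1 : D) = 0 := by
        calc (1 : D) = (a * (p : D)) * (a * (p : D)) := by rw [ha, mul_one]
          _ = a * a * ((p : D) * (p : D)) := by ring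
          _ = 0 := by rw [hppD, mul_zero]
      exact subsingleton_of_zero_eq_one h2.symm
    refine ⟨D, inferInstance, (algebraMap B D).comp ι, q, RingHom.id D, ⟨hLD, ?_, ?_⟩⟩
    · ext w; exact Subsingleton.elim _ _
    · intro b; exact Subsingleton.elim _ _
  · haveI : CharP C p := charP_of_injective_algebraMap (algebraMap k C).injective p
    let eC : D ⧸ RingHom.ker q ≃+* C := RingHom.quotientKerEquivOfSurjective hqs
    have heC : ∀ d, eC (Ideal.Quotient.mk _ d) = q d := fun d => rfl
    let g₀ : D →+* D ⧸ RingHom.ker q :=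
      (eC.symm : C →+* D ⧸ RingHom.ker q).comp ((frobenius C p).comp q)
    have hg₀ : ∀ d, eC (g₀ d) = q d ^ p := by
      intro d
      change eC (eC.symm (frobenius C p (q d))) = _
      rw [RingEquiv.apply_symm_apply, frobenius_def]
    have hcompat : g₀.comp (algebraMap B D)
        = (Ideal.Quotient.mk (RingHom.ker q)).comp ((algebraMap B D).comp Φ) := by
      ext b
      apply eC.injective
      rw [RingHom.comp_apply, hg₀, RingHom.comp_apply, RingHom.comp_apply, heC, hqc', hqc',
        hΦ.red, map_pow]
    obtain ⟨g, hg1, hg2⟩ := exists_lift_of_formallySmooth ((algebraMap B D).comp Φ)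
      (RingHom.ker q) hJ g₀ hcompat
    refine ⟨D, inferInstance, (algebraMap B D).comp ι, q, g, ⟨hLD, ?_, ?_⟩⟩
    · rw [← RingHom.comp_assoc, hg2, RingHom.comp_assoc, hΦ.semi, RingHom.comp_assoc]
    · intro d
      have h1 := RingHom.congr_fun hg1 d
      rw [RingHom.comp_apply] at h1
      rw [← heC, h1, hg₀]

end Groth.Agent.Lib.Helper6.EtLift
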