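import Groth.Agent.Lib.Helper6.EtLift.ELb
import Groth.Agent.Lib.Helper8.SmQ9

/-!
# helper6: smooth algebras over a perfect field are `F`-liftable (S13148)
-/

set_option autoImplicit false
set_option linter.unusedSectionVars false
set_option linter.unusedVariables false
set_option linter.unusedSimpArgs false
set_option linter.style.haveILetI false
set_option maxHeartbeats 400000

universe u v
open FrobAlg Groth.Agent.Lib.Helper6.W2Arith

namespace Groth.Agent.Lib.Helper6.EtLift

/-- Smooth lifting along `R → R ⧸ I`, packaged as a surjection `q : S → Sb` with kernel `I S`. -/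
theorem exists_smooth_lift_surj (R : Type u) [CommRing R] (I : Ideal R) (Sb : Type u)
    [CommRing Sb] [Algebra (R ⧸ I) Sb] [Algebra.Smooth (R ⧸ I) Sb] :
    ∃ (S : Type u) (_ : CommRing S) (_ : Algebra R S) (q : S →+* Sb), Algebra.Smooth R S ∧
      Function.Surjective q ∧ RingHom.ker q = I.map (algebraMap R S) ∧
      ∀ r : R, q (algebraMap R S r) = algebraMap (R ⧸ I) Sb (Ideal.Quotient.mk I r) := by
  letI : Algebra R Sb := Algebra.compHom Sb (Ideal.Quotient.mk I)
  haveI : IsScalarTower R (R ⧸ I) Sb := IsScalarTower.of_algebraMap_eq fun r => rfl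
  obtain ⟨S, _, _, hS, ⟨e'⟩⟩ := Groth.Agent.Helper8.SmQ.exists_smooth_lift (A₀ := Sb) I
  refine ⟨S, inferInstance, inferInstance,
    (e' : (S ⧸ I.map (algebraMap R S)) →+* Sb).comp (Ideal.Quotient.mk _), hS, ?_, ?_, ?_⟩
  · exact e'.surjective.comp Ideal.Quotient.mk_surjective
  · ext s
    rw [RingHom.mem_ker, RingHom.comp_apply]
    change e' (Ideal.Quotient.mk _ s) = 0 ↔ _
    rw [map_eq_zero_iff e' e'.injective, Ideal.Quotient.eq_zero_iff_mem]
  · intro r
    rw [RingHom.comp_apply]
    change e' (Ideal.Quotient.mk _ (algebraMap R S r)) = _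
    have h1 : Ideal.Quotient.mk (I.map (algebraMap R S)) (algebraMap R S r)
        = algebraMap (R ⧸ I) (S ⧸ I.map (algebraMap R S)) (Ideal.Quotient.mk I r) := rfl
    rw [h1, e'.commutes]

theorem isFLiftable_of_smooth
    (p : ℕ) [Fact p.Prime] (k : Type u) [Field k] [CharP k p] [PerfectRing k p]
    (A : Type u) [CommRing A] [Algebra k A] [Algebra.Smooth k A] :
    FrobAlg.IsFLiftable p k A := by
  have hres_surj : Function.Surjective (res p k) := fun a => ⟨tau p a, by
    rw [res_apply, tau_coeff_zero]⟩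
  let eK : W2 p k ⧸ RingHom.ker (res p k) ≃+* k := RingHom.quotientKerEquivOfSurjective hres_surj
  have heK : ∀ w, eK (Ideal.Quotient.mk _ w) = res p k w := fun w => rfl
  letI : Algebra (W2 p k ⧸ RingHom.ker (res p k)) k :=
    (eK : W2 p k ⧸ RingHom.ker (res p k) →+* k).toAlgebra
  letI : Algebra (W2 p k ⧸ RingHom.ker (res p k)) A :=
    ((algebraMap k A).comp (eK : W2 p k ⧸ RingHom.ker (res p k) →+* k)).toAlgebra
  haveI : IsScalarTower (W2 p k ⧸ RingHom.ker (res p k)) k A :=
    IsScalarTower.of_algebraMap_eq (fun _ => rfl)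
  haveI : Algebra.Etale (W2 p k ⧸ RingHom.ker (res p k)) k :=
    Algebra.Etale.of_equiv (A := W2 p k ⧸ RingHom.ker (res p k))
      (AlgEquiv.ofRingEquiv (f := eK) (fun _ => rfl))
  haveI : Algebra.Smooth (W2 p k ⧸ RingHom.ker (res p k)) k := inferInstance
  haveI : Algebra.Smooth (W2 p k ⧸ RingHom.ker (res p k)) A :=
    Algebra.Smooth.comp (W2 p k ⧸ RingHom.ker (res p k)) k A
  obtain ⟨D, _, _, q, hD, hqs, hqk, hqc⟩ :=
    exists_smooth_lift_surj (W2 p k) (RingHom.ker (res p k)) A
  have hqc' : ∀ w, q (algebraMap (W2 p k) D w) = algebraMap k A (res p k w) :=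
    fun w => (hqc w).trans rfl
  have hppW : (p : W2 p k) * (p : W2 p k) = 0 := p_mul_p p k
  have hppD : (p : D) * (p : D) = 0 := by
    have h1 := congrArg (algebraMap (W2 p k) D) hppW
    simpa using h1
  have hqk' : RingHom.ker q = Ideal.span {(p : D)} := by
    rw [hqk, ker_res_eq, Ideal.map_span, Set.image_singleton, map_natCast]
  have hJ : IsNilpotent (RingHom.ker q) := by
    refine ⟨2, ?_⟩
    rw [hqk', Ideal.span_singleton_pow, sq, hppD, Ideal.zero_eq_bot, Ideal.span_singleton_eq_bot]
  have hflat : (algebraMap (W2 p k) D).Flat := by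
    rw [RingHom.flat_algebraMap_iff]
    infer_instance
  have hcomm : q.comp (algebraMap (W2 p k) D) = (algebraMap k A).comp (res p k) := by
    ext w
    rw [RingHom.comp_apply, RingHom.comp_apply, hqc']
  have hLD : IsLift p k A D (algebraMap (W2 p k) D) q := ⟨hflat, hqs, hqk, hcomm⟩
  rcases subsingleton_or_nontrivial A with hA | hA
  · -- degenerate case
    haveI : Subsingleton D := by
      have h1 : (1 : D) ∈ RingHom.ker q := by
        rw [RingHom.mem_ker]; exact Subsingleton.elim _ _
      rw [hqk', Ideal.mem_span_singleton'] at h1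
      obtain ⟨a, ha⟩ := h1
      have h2 : (1 : D) = 0 := by
        calc (1 : D) = (a * (p : D)) * (a * (p : D)) := by rw [ha, mul_one]
          _ = a * a * ((p : D) * (p : D)) := by ring
          _ = 0 := by rw [hppD, mul_zero]
      exact subsingleton_of_zero_eq_one h2.symm
    refine ⟨D, inferInstance, algebraMap (W2 p k) D, q, RingHom.id D, ⟨hLD, ?_, ?_⟩⟩
    · ext w; exact Subsingleton.elim _ _
    · intro b; exact Subsingleton.elim _ _
  · haveI : CharP A p := charP_of_injective_algebraMap (algebraMap k A).injective p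
    let eC : D ⧸ RingHom.ker q ≃+* A := RingHom.quotientKerEquivOfSurjective hqs
    have heC : ∀ d, eC (Ideal.Quotient.mk _ d) = q d := fun d => rfl
    let g₀ : D →+* D ⧸ RingHom.ker q :=
      (eC.symm : A →+* D ⧸ RingHom.ker q).comp ((frobenius A p).comp q)
    have hg₀ : ∀ d, eC (g₀ d) = q d ^ p := by
      intro d
      change eC (eC.symm (frobenius A p (q d))) = _
      rw [RingEquiv.apply_symm_apply, frobenius_def]
    have hcompat : g₀.comp (algebraMap (W2 p k) D)
        = (Ideal.Quotient.mk (RingHom.ker q)).comp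
          ((algebraMap (W2 p k) D).comp (sigma p k)) := by
      ext w
      apply eC.injective
      rw [RingHom.comp_apply, hg₀, RingHom.comp_apply, RingHom.comp_apply, heC, hqc', hqc',
        res_apply, res_apply, WittGrp.coeff_frob, map_pow]
    obtain ⟨g, hg1, hg2⟩ := exists_lift_of_formallySmooth
      ((algebraMap (W2 p k) D).comp (sigma p k)) (RingHom.ker q) hJ g₀ hcompat
    refine ⟨D, inferInstance, algebraMap (W2 p k) D, q, g, ⟨hLD, hg2, ?_⟩⟩
    intro d
    have h1 := RingHom.congr_fun hg1 d
    rw [RingHom.comp_apply] at h1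
    rw [← heC, h1, hg₀]

end Groth.Agent.Lib.Helper6.EtLift
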